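import Mathlib

/-!
The rank of the gradients at a prime of the relations of a finite type algebra, and an embedding of a
neighbourhood of the prime in a standard smooth algebra whose relative dimension is the fibre rank of Ω.
-/

universe u

open scoped TensorProduct

namespace VarietyLib

variable {A B : Type u} [CommRing A] [CommRing B] [Algebra A B] {n : ℕ}

theorem exists_minor_of_finrank {K : Type u} [Field K] {m : ℕ} (g : Fin m → Fin n → K)
    (hg : LinearIndependent K g) :
    ∃ σ : Fin m → Fin n, Function.Injective σ ∧ (Matrix.of fun i j => g j (σ i)).det ≠ 0 := by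
  classical
  let M : Matrix (Fin m) (Fin n) K := Matrix.of g
  have hrk : Module.finrank K (Submodule.span K (Set.range M.col)) = m := by
    rw [← Matrix.rank_eq_finrank_span_cols]
    simpa using LinearIndependent.rank_matrix (M := M) hg
  obtain ⟨f, hf, -, hli⟩ := Submodule.exists_fun_fin_finrank_span_eq K (Set.range M.col)
  choose σ hσ using fun i : Fin m => hf (Fin.cast hrk.symm i)
  have hli' : LinearIndependent K fun i => M.col (σ i) := by
    have h := hli.comp (Fin.cast hrk.symm) (Fin.cast_injective _)
    convert! h using 1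
    exact funext hσ
  refine ⟨σ, fun a b hab => hli'.injective (congrArg M.col hab), ?_⟩
  have h := Matrix.linearIndependent_rows_iff_isUnit.1
    (show LinearIndependent K (Matrix.of fun i j => g j (σ i)).row from hli')
  exact ((Matrix.isUnit_iff_isUnit_det _).1 h).ne_zero

/-- At a prime `q` of `B`, the gradients of the relations among given generators span a space of
dimension at least the number of generators minus the rank of `κ(q) ⊗ Ω[B/A]`. -/
theorem exists_independent_gradients (φ : MvPolynomial (Fin n) A →ₐ[A] B) (hφ : Function.Surjective φ)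
    (q : Ideal B) [q.IsPrime] (r : ℕ)
    (hr : Module.finrank q.ResidueField (q.ResidueField ⊗[B] Ω[B⁄A]) = r) :
    r ≤ n ∧ ∃ f : Fin (n - r) → MvPolynomial (Fin n) A, (∀ j, φ (f j) = 0) ∧
      LinearIndependent q.ResidueField
        fun j i => algebraMap B q.ResidueField (φ (MvPolynomial.pderiv i (f j))) := by
  classical
  let K := q.ResidueField
  let V := K ⊗[B] Ω[B⁄A]
  letI : Algebra (MvPolynomial (Fin n) A) K := ((algebraMap B K).comp φ.toRingHom).toAlgebra
  haveI : IsScalarTower A (MvPolynomial (Fin n) A) K := .of_algebraMap_eq fun a => by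
    rw [IsScalarTower.algebraMap_apply A B K, ← φ.commutes a]; rfl
  let grad : Derivation A (MvPolynomial (Fin n) A) (Fin n → K) :=
    MvPolynomial.mkDerivation A fun i => Pi.single i 1
  have hgrad : ∀ f i, grad f i = algebraMap B K (φ (MvPolynomial.pderiv i f)) := fun f i => by
    induction f using MvPolynomial.induction_on with
    | C a => simp [grad]
    | add p p' hp hp' => simp [map_add, hp, hp']
    | mul_X p j hp =>
      rw [Derivation.leibniz, Derivation.leibniz, MvPolynomial.mkDerivation_X, MvPolynomial.pderiv_X]
      simp only [Pi.add_apply, Pi.smul_apply, hp, smul_eq_mul, map_add, map_mul, Algebra.smul_def]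
      rcases eq_or_ne i j with rfl | hij
      · simp [RingHom.algebraMap_toAlgebra, ← hp]
      · simp [RingHom.algebraMap_toAlgebra, Pi.single_eq_of_ne hij, Pi.single_eq_of_ne (Ne.symm hij), ← hp]
  let ψ : (Fin n → K) →ₗ[K] V :=
    Fintype.linearCombination K fun i => (1 : K) ⊗ₜ[B] KaehlerDifferential.D A B (φ (MvPolynomial.X i))
  have hψs : ∀ i, ψ (Pi.single i 1) = (1 : K) ⊗ₜ[B] KaehlerDifferential.D A B (φ (MvPolynomial.X i)) := fun i => by
    simp [ψ, Fintype.linearCombination_apply_single]
  have hψ : Function.Surjective ψ := by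
    rw [← LinearMap.range_eq_top, eq_top_iff]
    rintro z -
    induction z using TensorProduct.induction_on with
    | zero => exact Submodule.zero_mem _
    | add a b ha hb => exact Submodule.add_mem _ ha hb
    | tmul c m =>
      rw [show c ⊗ₜ[B] m = c • ((1 : K) ⊗ₜ[B] m) by rw [TensorProduct.smul_tmul', smul_eq_mul, mul_one]]
      refine Submodule.smul_mem _ _ ?_
      have hm : m ∈ Submodule.span B (Set.range (KaehlerDifferential.D A B)) := by
        rw [KaehlerDifferential.span_range_derivation]; trivial
      induction hm using Submodule.span_induction with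
      | mem x hx =>
        obtain ⟨x, rfl⟩ := hx
        obtain ⟨p, rfl⟩ := hφ x
        induction p using MvPolynomial.induction_on with
        | C a =>
          rw [show φ (MvPolynomial.C a) = algebraMap A B a from φ.commutes a, Derivation.map_algebraMap, TensorProduct.tmul_zero]
          exact Submodule.zero_mem _
        | add p p' hp hp' => rw [map_add, map_add, TensorProduct.tmul_add]; exact Submodule.add_mem _ hp hp'
        | mul_X p j hp =>
          rw [map_mul, Derivation.leibniz, TensorProduct.tmul_add, TensorProduct.tmul_smul, TensorProduct.tmul_smul,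
            ← algebraMap_smul K (φ p), ← algebraMap_smul K (φ (MvPolynomial.X j))]
          exact Submodule.add_mem _ (Submodule.smul_mem _ _ ⟨_, hψs j⟩) (Submodule.smul_mem _ _ hp)
      | zero => rw [TensorProduct.tmul_zero]; exact Submodule.zero_mem _
      | add x y _ _ hx hy => rw [TensorProduct.tmul_add]; exact Submodule.add_mem _ hx hy
      | smul a x _ hx =>
        rw [TensorProduct.tmul_smul, ← algebraMap_smul K a]
        exact Submodule.smul_mem _ _ hx
  let S : Set (Fin n → K) := grad '' {f | φ f = 0}
  have hle : LinearMap.ker ψ ≤ Submodule.span K S := by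
    intro v hv
    by_contra hvW
    obtain ⟨Λ, hΛv, hΛ⟩ := Submodule.exists_dual_map_eq_bot_of_notMem hvW inferInstance
    let d0 : Derivation A (MvPolynomial (Fin n) A) K := (Λ.restrictScalars (MvPolynomial (Fin n) A)).compDer grad
    have hd0 : ∀ f, φ f = 0 → d0 f = 0 := fun f hf => by
      have : Λ (grad f) ∈ (Submodule.span K S).map Λ := Submodule.mem_map_of_mem (Submodule.subset_span ⟨f, hf, rfl⟩)
      rw [hΛ, Submodule.mem_bot] at this
      exact this
    choose s hs using hφ
    have hind : ∀ f g, φ f = φ g → d0 f = d0 g := fun f g h => by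
      rw [← sub_eq_zero, ← map_sub]; exact hd0 _ (by rw [map_sub, h, sub_self])
    let d : Derivation A B K :=
      { toFun := fun b => d0 (s b)
        map_add' := fun a b => by
          show d0 (s (a + b)) = d0 (s a) + d0 (s b)
          rw [← map_add]; exact hind _ _ (by simp [hs])
        map_smul' := fun c b => by
          show d0 (s (c • b)) = c • d0 (s b)
          rw [← Derivation.map_smul]; exact hind _ _ (by simp [hs])
        map_one_eq_zero' := by
          show d0 (s 1) = 0
          rw [← Derivation.map_one_eq_zero d0]; exact hind _ _ (by simp [hs])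
        leibniz' := fun a b => by
          show d0 (s (a * b)) = a • d0 (s b) + b • d0 (s a)
          rw [hind (s (a * b)) (s a * s b) (by simp [hs]), Derivation.leibniz]
          simp [Algebra.smul_def, RingHom.algebraMap_toAlgebra, hs] }
    let l : V →ₗ[K] K := (LinearMap.liftBaseChange K d.liftKaehlerDifferential)
    have hl : l ∘ₗ ψ = Λ := (Pi.basisFun K (Fin n)).ext fun i => by
      rw [LinearMap.comp_apply, Pi.basisFun_apply, hψs]
      show LinearMap.liftBaseChange K d.liftKaehlerDifferential ((1 : K) ⊗ₜ[B] KaehlerDifferential.D A B (φ (MvPolynomial.X i))) = _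
      rw [LinearMap.liftBaseChange_tmul, one_smul, Derivation.liftKaehlerDifferential_comp_D]
      show d0 (s (φ (MvPolynomial.X i))) = _
      rw [hind _ (MvPolynomial.X i) (hs _)]
      simp [d0, grad]
    exact hΛv (by rw [← hl, LinearMap.comp_apply, LinearMap.mem_ker.1 hv, map_zero])
  have hnr := ψ.finrank_range_add_finrank_ker
  rw [LinearMap.range_eq_top.2 hψ, finrank_top, hr, Module.finrank_fin_fun] at hnr
  refine ⟨by omega, ?_⟩
  obtain ⟨g, hg, -, hli⟩ := Submodule.exists_fun_fin_finrank_span_eq K S
  have hle' : n - r ≤ Module.finrank K (Submodule.span K S) := by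
    have := Submodule.finrank_mono hle
    omega
  choose f hf hfg using fun j : Fin (n - r) => hg (Fin.castLE hle' j)
  refine ⟨f, hf, ?_⟩
  have h := hli.comp (Fin.castLE hle') (Fin.castLE_injective _)
  convert! h using 1
  funext j i
  rw [← hgrad]
  exact congrFun (hfg j) i

/-- A neighbourhood of `q` is a quotient of a standard smooth algebra of relative dimension
`dim κ(q) ⊗ Ω[B/A]`. -/
theorem exists_standardSmooth_surjective [Algebra.FiniteType A B] (q : Ideal B) [q.IsPrime] (r : ℕ)
    (hr : Module.finrank q.ResidueField (q.ResidueField ⊗[B] Ω[B⁄A]) = r) :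
    ∃ g : B, g ∉ q ∧ ∃ (D : Type u) (_ : CommRing D) (_ : Algebra A D),
      Algebra.IsStandardSmoothOfRelativeDimension r A D ∧
        ∃ φ : D →ₐ[A] Localization.Away g, Function.Surjective φ := by
  classical
  obtain ⟨n, φ, hφ⟩ := Algebra.FiniteType.iff_quotient_mvPolynomial''.1 ‹Algebra.FiniteType A B›
  obtain ⟨hrn, f, hf, hli⟩ := exists_independent_gradients φ hφ q r hr
  obtain ⟨σ, hσ, hdet⟩ := exists_minor_of_finrank _ hli
  let Δ : MvPolynomial (Fin n) A :=
    (Matrix.of fun i j : Fin (n - r) => MvPolynomial.pderiv (σ i) (f j)).det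
  have hΔ : algebraMap B q.ResidueField (φ Δ) ≠ 0 := by
    simp only [Δ, ← AlgHom.coe_toRingHom, ← RingHom.comp_apply]
    rw [RingHom.map_det]
    exact hdet
  refine ⟨φ Δ, fun h => hΔ (Ideal.algebraMap_residueField_eq_zero.2 h), ?_⟩
  let J := Ideal.span (Set.range f)
  let Q := MvPolynomial (Fin n) A ⧸ J
  let P := Algebra.PreSubmersivePresentation.naive (R := A) (v := f) σ hσ
  have hjac : P.jacobian = Ideal.Quotient.mk J Δ := by
    rw [Algebra.PreSubmersivePresentation.jacobian_eq_jacobiMatrix_det]
    show Ideal.Quotient.mk J _ = _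
    congr 1
    exact congrArg Matrix.det (Matrix.ext fun i j => Algebra.PreSubmersivePresentation.jacobiMatrix_apply P i j)
  let D := Localization.Away (Ideal.Quotient.mk J Δ)
  let P' := (Algebra.PreSubmersivePresentation.localizationAway D (Ideal.Quotient.mk J Δ)).comp P
  have hu : IsUnit P'.jacobian := by
    rw [Algebra.PreSubmersivePresentation.comp_jacobian_eq_jacobian_smul_jacobian,
      Algebra.PreSubmersivePresentation.localizationAway_jacobian, hjac, Algebra.smul_def]
    exact (IsLocalization.Away.algebraMap_isUnit _).mul (IsLocalization.Away.algebraMap_isUnit _)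
  refine ⟨D, inferInstance, inferInstance, ?_, ?_⟩
  · exact Algebra.SubmersivePresentation.isStandardSmoothOfRelativeDimension
      { toPreSubmersivePresentation := P', jacobian_isUnit := hu }
      (by simp [Algebra.Presentation.dimension, Nat.card_sum]; omega)
  · let ψ : Q →ₐ[A] B := Ideal.Quotient.liftₐ J φ fun a ha => by
      have : J ≤ RingHom.ker φ := Ideal.span_le.2 (by rintro _ ⟨j, rfl⟩; exact hf j)
      exact this ha
    let χ : Q →ₐ[A] Localization.Away (φ Δ) := (IsScalarTower.toAlgHom A B _).comp ψ
    have hunit : ∀ y : Submonoid.powers (Ideal.Quotient.mk J Δ), IsUnit (χ y) := by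
      rintro ⟨_, k, rfl⟩
      rw [map_pow]
      exact (IsLocalization.Away.algebraMap_isUnit (φ Δ)).pow k
    refine ⟨IsLocalization.liftAlgHom hunit, fun z => ?_⟩
    obtain ⟨b, ⟨_, k, rfl⟩, rfl⟩ := IsLocalization.exists_mk'_eq (Submonoid.powers (φ Δ)) z
    obtain ⟨p, rfl⟩ := hφ b
    refine ⟨IsLocalization.mk' D (Ideal.Quotient.mk J p)
      (⟨Ideal.Quotient.mk J Δ ^ k, Submonoid.pow_mem _ (Submonoid.mem_powers _) k⟩ : Submonoid.powers (Ideal.Quotient.mk J Δ)), ?_⟩
    rw [IsLocalization.liftAlgHom_apply, IsLocalization.lift_mk'_spec]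
    show algebraMap B _ (φ p) = χ (Ideal.Quotient.mk J Δ ^ k) * _
    rw [map_pow]
    show _ = (algebraMap B (Localization.Away (φ Δ)) (φ Δ)) ^ k * _
    rw [← map_pow]
    exact (IsLocalization.mk'_spec' (Localization.Away (φ Δ)) (φ p) (⟨φ Δ ^ k, Submonoid.pow_mem _ (Submonoid.mem_powers _) k⟩ : Submonoid.powers (φ Δ))).symm

end VarietyLib
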